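import Mathlib

/-!
# The ideal of a section when the differentials are cyclic
-/

set_option autoImplicit false
set_option linter.style.haveILetI false

universe u

open IsLocalRing

namespace Groth.Agent.SecDiv

/-- The ideal of a section is principal if the differentials of the local ring are cyclic. -/
theorem exists_span_eq_ker {A O B : Type u} [CommRing A] [CommRing O] [CommRing B] [IsLocalRing B]
    [Algebra A O] [Algebra A B] (φ : O →ₐ[A] B) (s : B →+* O) (hs : ∀ o, s (φ o) = o)
    (hI : RingHom.ker s ≤ maximalIdeal B) (hfg : (RingHom.ker s).FG)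
    (ω : Ω[B⁄A]) (hω : Submodule.span B {ω} = ⊤) :
    ∃ a, RingHom.ker s = Ideal.span {a} := by
  let I : Ideal B := RingHom.ker s
  let δ : B → I := fun b => ⟨b - φ (s b), by rw [RingHom.mem_ker, map_sub, hs, sub_self]⟩
  let d : Derivation A B I.Cotangent := Derivation.mk'
    { toFun := fun b => I.toCotangent (δ b)
      map_add' := fun x y => by
        rw [← map_add]
        congr 1
        exact Subtype.ext (by simp [δ]; ring)
      map_smul' := fun a x => by
        rw [RingHom.id_apply, ← LinearMap.map_smul_of_tower I.toCotangent]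
        congr 1
        refine Subtype.ext ?_
        show a • x - φ (s (a • x)) = ((a • δ x : I) : B)
        rw [Submodule.coe_smul_of_tower, Algebra.smul_def, Algebra.smul_def, map_mul, map_mul, ← φ.commutes a, hs,
          φ.commutes]
        show _ = algebraMap A B a * (x - φ (s x))
        ring }
    (fun a b => by
      show I.toCotangent (δ (a * b)) = a • I.toCotangent (δ b) + b • I.toCotangent (δ a)
      rw [← map_smul, ← map_smul, ← map_add, Ideal.toCotangent_eq]
      have e : ((δ (a * b) : B) - ((a • δ b + b • δ a : I) : B)) = -((δ a : B) * (δ b : B)) := by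
        simp [δ]
        ring
      rw [e, pow_two]
      exact neg_mem (Ideal.mul_mem_mul (δ a).2 (δ b).2))
  let L := d.liftKaehlerDifferential
  obtain ⟨⟨a, ha⟩, hLω⟩ := I.toCotangent_surjective (L ω)
  refine ⟨a, le_antisymm (Submodule.le_of_le_smul_of_le_jacobson_bot hfg (maximalIdeal_le_jacobson _)
    fun x hx => ?_) (by rw [Ideal.span_singleton_le_iff_mem]; exact ha)⟩
  have hx' : δ x = ⟨x, hx⟩ := Subtype.ext (by
    show x - φ (s x) = x
    rw [(RingHom.mem_ker).1 hx, map_zero, sub_zero])
  obtain ⟨c, hc⟩ : ∃ c, c • ω = KaehlerDifferential.D A B x :=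
    Submodule.mem_span_singleton.1 (hω ▸ Submodule.mem_top)
  have h1 : I.toCotangent ⟨x, hx⟩ = I.toCotangent (c • ⟨a, ha⟩) := by
    rw [map_smul, hLω, ← map_smul, hc, show L (KaehlerDifferential.D A B x) = d x from d.liftKaehlerDifferential_comp_D x]
    show _ = I.toCotangent (δ x)
    rw [hx']
  rw [Ideal.toCotangent_eq] at h1
  rw [show x = c * a + (x - c * a) by ring]
  refine Submodule.add_mem_sup (Ideal.mul_mem_left _ _ (Ideal.mem_span_singleton_self a)) ?_
  rw [smul_eq_mul]
  have h2 : x - c * a ∈ I * I := by
    rw [← pow_two]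
    simpa using h1
  exact Ideal.mul_mono_left hI h2

/-- A surjection from a formally unramified algebra kills the differentials. -/
theorem subsingleton_kaehler {A O B : Type u} [CommRing A] [CommRing O] [CommRing B] [Algebra A O] [Algebra A B]
    [Algebra.FormallyUnramified A O] (φ : O →ₐ[A] B) (h : Function.Surjective φ) : Subsingleton Ω[B⁄A] :=
  haveI := Algebra.FormallyUnramified.of_surjective φ h
  inferInstance

end Groth.Agent.SecDiv
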