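import Mathlib
import Groth.Agent.SecDiv.Ring
import Groth.Agent.RegImmLib.FibreQuasi
import Groth.Agent.S1676
import Groth.Agent.S18935
import Groth.Prelude.Def_BlowUp2

/-!
# A section of a smooth curve is an effective Cartier divisor
-/

set_option autoImplicit false
set_option linter.style.haveILetI false
set_option backward.isDefEq.respectTransparency false
set_option backward.isDefEq.respectTransparency.types false

universe u

open AlgebraicGeometry CategoryTheory RingTheory.Sequence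

namespace Groth.Agent.SecDiv

variable {X Y : Scheme.{u}} (f : X ⟶ Y) [SmoothOfRelativeDimension 1 f] (σ : Y ⟶ X)

/-- At its points the ideal of a section is principal and nonzero. -/
theorem ker_stalkMap_section [IsClosedImmersion σ] (hσ : σ ≫ f = 𝟙 Y) (y : Y)
    (hfg : (RingHom.ker (σ.stalkMap y).hom).FG) :
    ∃ a, RingHom.ker (σ.stalkMap y).hom = Ideal.span {a} ∧ RingHom.ker (σ.stalkMap y).hom ≠ ⊥ := by
  obtain ⟨V, hV, W, hW, hxW, e, hst⟩ :=
    SmoothOfRelativeDimension.exists_isStandardSmoothOfRelativeDimension (n := 1) (f := f) (σ y)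
  have hxy : f (σ y) = y := congrArg (fun t : Y ⟶ Y => t y) hσ
  have hyV : y ∈ V := hxy ▸ e hxW
  let φ₀ : Y.presheaf.stalk y →+* X.presheaf.stalk (σ y) := FibFlat.sm f (σ y) y hxy
  let s : X.presheaf.stalk (σ y) →+* Y.presheaf.stalk y := (σ.stalkMap y).hom
  have hs : ∀ o, s (φ₀ o) = o := by
    intro o
    have h1 := FibFlat.sm_comp σ f y (σ y) y rfl hxy
    rw [FibFlat.sm_congr hσ y y _, FibFlat.sm_self σ y] at h1
    refine ((RingHom.congr_fun h1 o).symm.trans ?_)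
    show FibFlat.sm (𝟙 Y) y ((𝟙 Y : Y ⟶ Y) y) rfl o = o
    rw [FibFlat.sm_self]
    simp
  letI algS : Algebra Γ(Y, V) Γ(X, W) := (f.appLE V W e).hom.toAlgebra
  haveI : Algebra.IsStandardSmoothOfRelativeDimension 1 Γ(Y, V) Γ(X, W) := hst
  haveI : Algebra.IsStandardSmooth Γ(Y, V) Γ(X, W) :=
    Algebra.IsStandardSmoothOfRelativeDimension.isStandardSmooth (n := 1)
  letI : Algebra Γ(Y, V) (Y.presheaf.stalk y) := (Y.presheaf.germ V y hyV).hom.toAlgebra
  haveI : IsLocalization.AtPrime (Y.presheaf.stalk y) (hV.primeIdealOf ⟨y, hyV⟩).asIdeal :=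
    hV.isLocalization_stalk ⟨y, hyV⟩
  haveI : Algebra.FormallyUnramified Γ(Y, V) (Y.presheaf.stalk y) :=
    Algebra.FormallyUnramified.of_isLocalization (hV.primeIdealOf ⟨y, hyV⟩).asIdeal.primeCompl
  letI : Algebra Γ(Y, V) (X.presheaf.stalk (σ y)) :=
    (φ₀.comp (Y.presheaf.germ V y hyV).hom).toAlgebra
  letI : Algebra Γ(X, W) (X.presheaf.stalk (σ y)) := (X.presheaf.germ W (σ y) hxW).hom.toAlgebra
  haveI : IsLocalization.AtPrime (X.presheaf.stalk (σ y)) (hW.primeIdealOf ⟨σ y, hxW⟩).asIdeal :=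
    hW.isLocalization_stalk ⟨σ y, hxW⟩
  haveI : IsScalarTower Γ(Y, V) Γ(X, W) (X.presheaf.stalk (σ y)) := IsScalarTower.of_algebraMap_eq fun a => by
    show (Y.presheaf.germ V y hyV ≫ Y.presheaf.stalkSpecializes (specializes_of_eq hxy) ≫ f.stalkMap (σ y)) a =
      (f.appLE V W e ≫ X.presheaf.germ W (σ y) hxW) a
    rw [TopCat.Presheaf.germ_stalkSpecializes_assoc, Scheme.Hom.germ_stalkMap, Scheme.Hom.appLE, Category.assoc,
      TopCat.Presheaf.germ_res]
  haveI : Nontrivial Γ(X, W) := (algebraMap Γ(X, W) (X.presheaf.stalk (σ y))).domain_nontrivial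
  let φ : Y.presheaf.stalk y →ₐ[Γ(Y, V)] X.presheaf.stalk (σ y) := ⟨φ₀, fun a => rfl⟩
  let bS := Module.Free.chooseBasis Γ(X, W) Ω[Γ(X, W)⁄Γ(Y, V)]
  have hrank : Module.finrank Γ(X, W) Ω[Γ(X, W)⁄Γ(Y, V)] = 1 :=
    Module.finrank_eq_of_rank_eq (Algebra.IsStandardSmoothOfRelativeDimension.rank_kaehlerDifferential 1)
  let b := bS.ofIsLocalizedModule (X.presheaf.stalk (σ y)) (hW.primeIdealOf ⟨σ y, hxW⟩).asIdeal.primeCompl
    (KaehlerDifferential.map Γ(Y, V) Γ(Y, V) Γ(X, W) (X.presheaf.stalk (σ y)))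
  have hcard : Fintype.card (Module.Free.ChooseBasisIndex Γ(X, W) Ω[Γ(X, W)⁄Γ(Y, V)]) = 1 :=
    (Module.finrank_eq_card_basis bS).symm.trans hrank
  obtain ⟨i, hi⟩ := Fintype.card_eq_one_iff.1 hcard
  have hspan : Submodule.span (X.presheaf.stalk (σ y)) {b i} = ⊤ := by
    rw [← b.span_eq]
    congr 1
    ext t
    exact ⟨fun h => ⟨i, h.symm⟩, fun ⟨j, hj⟩ => by rw [← hj, hi j]; rfl⟩
  obtain ⟨a, ha⟩ := exists_span_eq_ker φ s hs (IsLocalRing.le_maximalIdeal (RingHom.ker_ne_top _)) hfg (b i) hspan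
  refine ⟨a, ha, fun hbot => ?_⟩
  have hinj : Function.Injective s := (RingHom.injective_iff_ker_eq_bot s).2 hbot
  haveI := subsingleton_kaehler φ (fun x => ⟨s x, hinj (hs (s x))⟩)
  exact b.ne_zero i (Subsingleton.elim _ _)

/-- The ideal of a section of a smooth separated curve is effective Cartier. -/
theorem isEffCartierIdeal_ker_section [IsSeparated f] (hσ : σ ≫ f = 𝟙 Y) : BlowUp.IsEffCartierIdeal σ.ker := by
  haveI : IsClosedImmersion (σ ≫ f) := by rw [hσ]; infer_instance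
  haveI : IsClosedImmersion σ := IsClosedImmersion.of_comp σ f
  haveI : Smooth f := SmoothOfRelativeDimension.smooth (n := 1) f
  intro x
  by_cases hx : x ∈ Set.range σ
  swap
  · obtain ⟨U, hU, hxU, hUle⟩ := exists_isAffineOpen_mem_and_subset (x := x)
      (U := ⟨(Set.range σ)ᶜ, σ.isClosedEmbedding.isClosed_range.isOpen_compl⟩) hx
    refine ⟨⟨U, hU⟩, hxU, 1, one_mem _, ?_⟩
    rw [Ideal.span_singleton_one, Scheme.Hom.ker_apply]
    have hbot : σ ⁻¹ᵁ U = ⊥ := le_bot_iff.1 fun t ht => (hUle ht ⟨t, rfl⟩).elim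
    haveI : Subsingleton Γ(Y, σ ⁻¹ᵁ U) := by
      rw [hbot]
      infer_instance
    exact eq_top_iff.2 fun t _ => Subsingleton.elim _ _
  obtain ⟨y, rfl⟩ := hx
  obtain ⟨-, -, hreg⟩ := (RegImmLib.regClosed_iff σ).1 (Groth.Agent.S1676.result f σ hσ)
  obtain ⟨⟨U, hU⟩, hyU, -, rs, hrs, hker⟩ := hreg y
  obtain ⟨hU', hUs⟩ := Synt29.surjective_app_of_isClosedImmersion_restrict σ U hU
  letI : Algebra Γ(X, U) (X.presheaf.stalk (σ y)) := (X.presheaf.germ U (σ y) hyU).hom.toAlgebra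
  haveI hloc : IsLocalization.AtPrime (X.presheaf.stalk (σ y)) (hU.primeIdealOf ⟨σ y, hyU⟩).asIdeal :=
    hU.isLocalization_stalk ⟨σ y, hyU⟩
  let p := (hU.primeIdealOf ⟨σ y, hyU⟩).asIdeal
  let I := RingHom.ker (σ.app U).hom
  have hIfg : I.FG := by
    classical
    refine ⟨(show List Γ(X, U) from rs).toFinset, ?_⟩
    refine Eq.trans ?_ hker.symm
    show Ideal.span _ = Ideal.ofList _
    rw [Ideal.ofList]; congr 1; ext; simp
  have hIx : RingHom.ker (σ.stalkMap y).hom = I.map (algebraMap Γ(X, U) (X.presheaf.stalk (σ y))) :=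
    RegNear.ker_stalkMap_of_surjective σ y hU hU' hUs hyU
  obtain ⟨a', ha', hne⟩ := ker_stalkMap_section f σ hσ y (hIx ▸ hIfg.map _)
  obtain ⟨⟨⟨a, haI⟩, t⟩, hat⟩ := (IsLocalization.mem_map_algebraMap_iff p.primeCompl (X.presheaf.stalk (σ y))).1
    (hIx.le (ha'.ge (Ideal.mem_span_singleton_self a')))
  have hmap : I.map (algebraMap Γ(X, U) (X.presheaf.stalk (σ y))) =
      (Ideal.span {a}).map (algebraMap Γ(X, U) (X.presheaf.stalk (σ y))) := by
    rw [← hIx, ha', Ideal.map_span, Set.image_singleton]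
    rw [← hat, Ideal.span_singleton_mul_right_unit (IsLocalization.map_units _ t)]
  obtain ⟨g, hg, hgI⟩ := RegImmLib.exists_mul_mem_of_map_le p (X.presheaf.stalk (σ y)) I (Ideal.span {a}) hIfg hmap.le
  let W := X.basicOpen g
  have hyW : σ y ∈ W := by
    show σ y ∈ (X.basicOpen g : Set X)
    rw [← hU.fromSpec_image_basicOpen g]
    exact ⟨hU.primeIdealOf ⟨σ y, hyU⟩, hg, hU.fromSpec_primeIdealOf _⟩
  obtain ⟨rs', hrs', hker'⟩ := RegImmLib.restrict_seq σ hU .regular rs hrs hker g y hyW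
  let ρ := (X.presheaf.map (homOfLE (X.basicOpen_le g)).op).hom
  letI : Algebra Γ(X, U) Γ(X, W) := ρ.toAlgebra
  haveI : IsLocalization.Away g Γ(X, W) := hU.isLocalization_basicOpen g
  have hkW : RingHom.ker (σ.app W).hom = Ideal.span {algebraMap Γ(X, U) Γ(X, W) a} := by
    refine (KRegLib.app_basicOpen_props σ hU hU' hUs g).2.2.trans ?_
    rw [← Set.image_singleton (f := algebraMap Γ(X, U) Γ(X, W)) (a := a), ← Ideal.map_span]
    refine le_antisymm (Ideal.map_le_iff_le_comap.2 fun b hb => ?_)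
      (Ideal.map_mono ((Ideal.span_singleton_le_iff_mem _).2 haI))
    rw [Ideal.mem_comap, ← Ideal.unit_mul_mem_iff_mem _
      (IsLocalization.Away.algebraMap_isUnit (S := Γ(X, W)) g)]
    have h := Ideal.mem_map_of_mem (algebraMap Γ(X, U) Γ(X, W)) (hgI b hb)
    rwa [map_mul] at h
  have hWne : RingHom.ker (σ.app W).hom ≠ ⊤ := by
    haveI : Nonempty (σ ⁻¹ᵁ W : Y.Opens) := ⟨⟨y, hyW⟩⟩
    exact RingHom.ker_ne_top _
  have hWne0 : RingHom.ker (σ.app W).hom ≠ ⊥ := by
    intro h0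
    apply hne
    haveI hci : IsClosedImmersion (σ ∣_ W) := inferInstance
    obtain ⟨hW', hWs⟩ := Synt29.surjective_app_of_isClosedImmersion_restrict σ W (hU.basicOpen g)
    rw [RegNear.ker_stalkMap_of_surjective σ y (hU.basicOpen g) hW' hWs hyW, h0, Ideal.map_bot]
  have hK := (Groth.Agent.S18935.result (R := Γ(X, W)) hWne rs'
    (Groth.Agent.S15821.result Γ(X, W) rs' hrs'.toIsWeaklyRegular).1 hker'.symm [algebraMap Γ(X, U) Γ(X, W) a]
    (by rw [Ideal.ofList_singleton, hkW])).2 (fun l hl => by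
      match l, hl with
      | [], hl => exact absurd (hl.symm.trans Ideal.ofList_nil) hWne0
      | _ :: _, _ => simp)
  have hh1 := KRegLib.h1_of_koszul _ hK
  refine ⟨⟨W, hU.basicOpen g⟩, hyW, algebraMap Γ(X, U) Γ(X, W) a, ?_, (Scheme.Hom.ker_apply σ _).trans hkW⟩
  rw [mem_nonZeroDivisors_iff_right]
  intro c hc
  have hm := hh1 (fun _ => c) (by simpa using hc)
  have h0 : Submodule.span Γ(X, W) {v : Fin [algebraMap Γ(X, U) Γ(X, W) a].length → Γ(X, W) |
      ∃ i j, v = Pi.single i ([algebraMap Γ(X, U) Γ(X, W) a].get j) -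
        Pi.single j ([algebraMap Γ(X, U) Γ(X, W) a].get i)} = ⊥ := by
    rw [Submodule.span_eq_bot]
    rintro _ ⟨i, j, rfl⟩
    obtain rfl : i = j := Fin.ext (by have := i.2; have := j.2; simp at *)
    exact sub_self _
  rw [h0] at hm
  exact congrFun ((Submodule.mem_bot _).1 hm) ⟨0, by simp⟩

end Groth.Agent.SecDiv
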